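import Cfsg.Agent.PF8.Book
import Cfsg.Agent.BGUniq.SCNThree

/-!
# Centralizers of elements of `L_σ` for `L` of type `P`

If `L_F` is a TI-subset and `L` has rank at most one at the other primes of `σ(L)`, the
centralizers of the non-identity elements of `L_σ` lie in `L`.
-/

set_option autoImplicit false
set_option linter.unusedSectionVars false

namespace Cfsg.Agent.PF8

open Cfsg
open scoped Pointwise
open Cfsg.Agent.BGSummary
open Cfsg.Agent.BGSigma (sigmaCore_le le_normalizer_sigmaCore isPiSub_sigmaCore)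

universe u

variable {G : Type u} [Group G] [Finite G]

/-- `L_F` has order prime to its index in `L`. -/
theorem fittingHallOf_relIndex (L : Subgroup G) :
    (Nat.card (fittingHallOf L)).Coprime ((fittingHallOf L).relIndex L) := by
  rw [BGUniq.card_fittingHallOf, Subgroup.relIndex, fittingHallOf, Subgroup.subgroupOf,
    Subgroup.comap_map_eq_self_of_injective L.subtype_injective]
  exact BGUniq.fittingHall_coprime L

/-- An element of prime order `p ∣ |L_F|` of `L` lies in `L_F`. -/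
theorem mem_fittingHallOf_of_prime {L : Subgroup G} {x : G} (hx : x ∈ L) {p : ℕ} (hp : p.Prime)
    (hxp : orderOf x = p) (hd : p ∣ Nat.card (fittingHallOf L)) : x ∈ fittingHallOf L := by
  refine BGSigma.le_of_coprime_relIndex (BGUniq.fittingHallOf_le L)
    (fun m hm => Subgroup.mem_normalizer_iff.mpr fun y => ⟨fun hy => conj_mem_fittingHallOf hm hy,
      fun hy => by simpa [mul_assoc] using conj_mem_fittingHallOf (L.inv_mem hm) hy⟩)
    (Subgroup.zpowers_le.mpr hx) ?_ (Subgroup.mem_zpowers x)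
  rw [Nat.card_zpowers, hxp]
  exact (fittingHallOf_relIndex L).coprime_dvd_left hd

variable (hG : IsMinSimpleOddOrder G) (h : SummaryInputs G)
include hG h

theorem le_of_rank_one {L : Subgroup G} (hL : IsCoatom L) (hκ : (kappa L).Nonempty)
    (hTI : IsTISubset (fittingHallOf L : Set G))
    (hr : ∀ p : ℕ, p.Prime → ¬ p ∣ Nat.card (fittingHallOf L) → p ∈ sigma L → PRankLE p 1 L) :
    ∀ x ∈ sigmaCore L, x ≠ 1 → Subgroup.centralizer ({x} : Set G) ≤ L := by
  intro x hx hx1
  by_contra hxC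
  obtain ⟨p, hp, hpd⟩ := Nat.exists_prime_and_dvd (mt orderOf_eq_one_iff.mp hx1)
  haveI := Fact.mk hp
  set z := x ^ (orderOf x / p) with hz
  have hzo : orderOf z = p := orderOf_pow_orderOf_div (orderOf_pos x).ne' hpd
  have hzσ : z ∈ sigmaCore L := pow_mem hx _
  have hz1 : z ≠ 1 := fun h0 => hp.ne_one (by rw [← hzo, h0, orderOf_one])
  have hzC : ¬ Subgroup.centralizer ({z} : Set G) ≤ L := fun h0 => hxC fun c hc => h0 (by
    rw [Subgroup.mem_centralizer_singleton_iff] at hc ⊢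
    exact ((show Commute c x from hc).pow_right _).eq)
  have hpσ : p ∈ sigma L := isPiSub_sigmaCore L p hp
    (hzo ▸ Subgroup.orderOf_dvd_natCard _ hzσ)
  by_cases hpF : p ∣ Nat.card (fittingHallOf L)
  · have hzF := mem_fittingHallOf_of_prime (sigmaCore_le L hzσ) hp hzo hpF
    obtain ⟨c, hc, hcL⟩ := Set.not_subset.mp hzC
    have hN : Subgroup.normalizer (fittingHallOf L : Set G) = L :=
      BGSigma.normalizer_eq_coatom hG hL (BGUniq.fittingHallOf_le L) (h.fitting_core L hL).1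
        fun m hm => Subgroup.mem_normalizer_iff.mpr fun y => ⟨fun hy => conj_mem_fittingHallOf hm hy,
          fun hy => by simpa [mul_assoc] using conj_mem_fittingHallOf (L.inv_mem hm) hy⟩
    refine hz1 (hTI c (fun h0 => hcL (hN.le h0)) z hzF ?_)
    rw [Subgroup.mem_centralizer_singleton_iff.mp hc, mul_inv_cancel_right]
    exact hzF
  · obtain ⟨N, ⟨hN, hCN⟩, hNu, -, -, -, hcompl, hNd⟩ := h.signalizer L hL z hzσ hz1 hzC
    obtain ⟨K', U', hKU'⟩ := exists_decomp h hN
    obtain ⟨-, ⟨⟨hzN, y, hy, hy1, hzy⟩, -⟩, hzσN⟩ := hNd K' U' hKU'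
    have hpN : p ∉ sigma N := fun hps => hzσN (le_sigmaCore_of_sigma h hN hzN fun q hq hqd => by
      rw [hzo] at hqd
      rwa [(Nat.prime_dvd_prime_iff_eq hq hp).mp hqd])
    rcases h.sigma_prime_commute N hN y hy hy1 z
      ⟨hzN, Subgroup.mem_centralizer_singleton_iff.mpr hzy⟩ hz1
      (fun q hq hqd => by
        rw [hzo] at hqd
        rwa [(Nat.prime_dvd_prime_iff_eq hq hp).mp hqd]) with ⟨hk, -⟩ | ⟨ht, -⟩
    · have := (h.frobenius L hL z hzσ hz1 hzC N hN hCN ⟨p, hk p hp hzo.symm.dvd⟩).1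
      exact hκ.ne_empty this
    · obtain ⟨-, -, -, hnot⟩ := ht p hp hzo.symm.dvd
      obtain ⟨E, hEN, hE, hEc⟩ := BGUniq.exists_elementary_of_not_pRankLE hnot
      have hEp : IsPGroup p E := fun a => ⟨1, by
        rw [pow_one]; exact Subtype.ext (hE.2 a a.2)⟩
      obtain ⟨n, hn⟩ := hEp.exists_card_eq
      obtain ⟨k, hk, hkE⟩ := Coprime.exists_conj_le_of_le_sup E (sigmaCore N) (L ⊓ N)
        (hEN.trans (le_normalizer_sigmaCore N)) (inf_le_right.trans (le_normalizer_sigmaCore N))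
        (by
          rw [hn]
          exact Nat.Coprime.pow_left n ((Nat.Prime.coprime_iff_not_dvd hp).mpr
            fun hd => hpN (isPiSub_sigmaCore N p hp hd)))
        (Or.inr (Coprime.solvable_of_le (sigmaCore_le N) (BGSigma.coatom_isSolvable hG hN)))
        (hEN.trans (by rw [sup_comm]; exact (isComplIn_sup hcompl).ge))
      refine BGUniq.not_pRankLE_of_elementary (E := E.map (MulAut.conj k).toMonoidHom) (X := L)
        ?_ ⟨?_, ?_⟩ ?_ (hr p hp hpF hpσ)
      · rintro _ ⟨e, he, rfl⟩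
        exact (hkE e he).1
      · haveI := hE.1
        exact Subgroup.map_isMulCommutative E _
      · rintro _ ⟨e, he, rfl⟩
        rw [← map_pow, hE.2 e he, map_one]
      · rwa [Subgroup.card_map_of_injective (MulAut.conj k).injective]

theorem le_of_typeII {L : Subgroup G} (hL : IsCoatom L) (hII : IsOfTypeII L) :
    ∀ x ∈ sigmaCore L, x ≠ 1 → Subgroup.centralizer ({x} : Set G) ≤ L := by
  intro x hx hx1 c hc
  obtain ⟨⟨hTI, hN⟩, -, -⟩ := typeII_ti_stmt hG h L hL hII
  have hxA : x ∈ typeA0 L := Or.inl (sigma_subset_typeA hG h hL hx hx1)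
  by_contra hcL
  refine hx1 (hTI c (fun h0 => hcL (hN.le h0)) x hxA ?_)
  rw [Subgroup.mem_centralizer_singleton_iff.mp hc, mul_inv_cancel_right]
  exact hxA

/-- Type `P` data with cyclic `U`: rank one outside the primes of `L_F`. -/
theorem rank_one_of_cyclic {L W U W₂ : Subgroup G} (hL : IsCoatom L)
    (hP : IsTypePWith L W U W₂) (hU : IsCyclic U) :
    ∀ p : ℕ, p.Prime → ¬ p ∣ Nat.card (fittingHallOf L) → p ∈ sigma L → PRankLE p 1 L := by
  intro p hp hpF hpσ
  by_contra hnot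
  haveI := Fact.mk hp
  obtain ⟨K, U₀, hKU⟩ := exists_decomp h hL
  have hK : K ≠ ⊥ := h.typeP_conv L hL K U₀ hKU W U W₂ hP
  obtain ⟨E, hEL, hE, hEc⟩ := BGUniq.exists_elementary_of_not_pRankLE hnot
  have hEp : IsPGroup p E := fun a => ⟨1, by
    rw [pow_one]; exact Subtype.ext (hE.2 a a.2)⟩
  have hEσ : E ≤ sigmaCore L := fun a ha => by
    refine le_sigmaCore_of_sigma h hL (hEL ha) fun q hq hqd => ?_
    have h1 : orderOf a ∣ p := orderOf_dvd_of_pow_eq_one (hE.2 a ha)
    rwa [(Nat.prime_dvd_prime_iff_eq hq hp).mp (hqd.trans h1)]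
  have hEd : E ≤ ⁅L, L⁆ := hEσ.trans (h.fitting_core L hL).2.2.1
  obtain ⟨n, hn⟩ := hEp.exists_card_eq
  have hdn : ⁅L, L⁆ ≤ Subgroup.normalizer (fittingHallOf L : Set G) := fun m hm =>
    Subgroup.mem_normalizer_iff.mpr fun y =>
      ⟨fun hy => conj_mem_fittingHallOf (Subgroup.commutator_le_self L hm) hy, fun hy => by
        simpa [mul_assoc] using
          conj_mem_fittingHallOf (L.inv_mem (Subgroup.commutator_le_self L hm)) hy⟩
  obtain ⟨hFd, hUd, -, -⟩ := hP.U_compl
  obtain ⟨k, -, hkE⟩ := Coprime.exists_conj_le_of_le_sup E (fittingHallOf L) U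
    (hEd.trans hdn) (hUd.trans hdn)
    (by
      rw [hn]
      exact Nat.Coprime.pow_left n ((Nat.Prime.coprime_iff_not_dvd hp).mpr hpF))
    (Or.inr (Coprime.solvable_of_le (BGUniq.fittingHallOf_le L) (BGSigma.coatom_isSolvable hG hL)))
    (hEd.trans (isComplIn_sup hP.U_compl).ge)
  haveI := hU
  have hcyc : IsCyclic ↥(E.map (MulAut.conj k).toMonoidHom) :=
    Subgroup.isCyclic_of_le (by rintro _ ⟨e, he, rfl⟩; exact hkE e he)
  haveI : IsCyclic E :=
    (E.equivMapOfInjective _ (MulAut.conj k).injective).isCyclic.mpr hcyc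
  obtain ⟨⟨g, hg⟩, hgen⟩ := IsCyclic.exists_generator (α := E)
  have hgo : orderOf g = Nat.card E := by
    rw [← Subgroup.orderOf_mk g hg, orderOf_eq_card_of_forall_mem_zpowers hgen]
  have h2 : Nat.card E ≤ p := hgo ▸ Nat.le_of_dvd hp.pos
    (orderOf_dvd_of_pow_eq_one (hE.2 g hg))
  have h3 : p ^ 2 ≤ p := hEc.trans h2
  nlinarith [hp.two_le]

/-- For `L` of type `II`, `III` or `IV` with cyclic `U` in the last two cases. -/
theorem typeP_centralizer (hV : ∀ L : Subgroup G, IsCoatom L → ¬ IsOfTypeV L)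
    (hcyc : ∀ L W U W₂ : Subgroup G, IsCoatom L → (IsOfTypeIII L ∨ IsOfTypeIV L) →
      IsTypePWith L W U W₂ → IsCyclic U) :
    ∀ L : Subgroup G, IsCoatom L → (kappa L).Nonempty →
      ∀ x ∈ sigmaCore L, x ≠ 1 → Subgroup.centralizer ({x} : Set G) ≤ L := by
  intro L hL hκ
  obtain ⟨K, U, hKU⟩ := exists_decomp h hL
  have hK : K ≠ ⊥ := fun h0 => hκ.ne_empty ((eq_bot_iff_kappa hKU.hall).mp h0)
  rcases typeP_cases h hL hKU hK with h2 | h3 | h4 | h5
  · exact le_of_typeII hG h hL h2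
  · obtain ⟨W, V, W₂, hP, -, -, hTI, -⟩ := id h3
    exact le_of_rank_one hG h hL hκ (ti_of_fitting hG h hL hTI)
      (rank_one_of_cyclic hG h hL hP (hcyc L W V W₂ hL (Or.inl h3) hP))
  · obtain ⟨W, V, W₂, hP, -, -, hTI, -⟩ := id h4
    exact le_of_rank_one hG h hL hκ (ti_of_fitting hG h hL hTI)
      (rank_one_of_cyclic hG h hL hP (hcyc L W V W₂ hL (Or.inr h4) hP))
  · exact absurd h5 (hV L hL)
where
  ti_of_fitting {L : Subgroup G} (hG : IsMinSimpleOddOrder G) (h : SummaryInputs G)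
      (hL : IsCoatom L) (hTI : IsTISubset (fittingOf L : Set G)) :
      IsTISubset (fittingHallOf L : Set G) := by
    intro g hg x hx hgx
    have hle := TypeCore.fittingHallOf_le_fittingOf L
    refine hTI g (fun h0 => hg ?_) x (hle hx) (hle hgx)
    have hFL : fittingOf L ≠ ⊥ := fun he => (h.fitting_core L hL).1 (le_bot_iff.mp (he ▸ hle))
    rw [BGSigma.normalizer_eq_coatom hG hL (BGUniq.fittingOf_le L) hFL
      (BGUniq.le_normalizer_fittingOf L)] at h0
    exact Subgroup.mem_normalizer_iff.mpr fun y => ⟨fun hy => conj_mem_fittingHallOf h0 hy,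
      fun hy => by simpa [mul_assoc] using conj_mem_fittingHallOf (L.inv_mem h0) hy⟩

end Cfsg.Agent.PF8
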