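import Cfsg.Agent.PF8.Inputs
import Cfsg.Agent.PF8.Centralizer
import Cfsg.Agent.PF12.Inputs

/-!
# The fields of `PF12.Inputs` supplied by the supports section
-/

set_option autoImplicit false

namespace Cfsg.Agent.PF8

open Cfsg
open Cfsg.Agent.BGSummary

universe u

variable {G : Type u} [Group G] [Finite G] (hG : IsMinSimpleOddOrder G)
include hG

theorem suppA_eq_bookA {M : Subgroup G} (hM : IsCoatom M) (hκ : kappa M = ∅) :
    PF12.suppA M = bookA M := by
  have h := summaryInputs hG
  obtain ⟨K, U, hKU⟩ := exists_decomp h hM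
  have hF := fittingHallOf_eq h hM hKU
    (ne_bot_of_kappa_empty hG h hM hKU ((eq_bot_iff_kappa hKU.hall).mpr hκ))
  ext a
  simp only [PF12.suppA, bookA, if_pos hκ, hF, Set.mem_ofPred_eq]

theorem dade_suppA (M : Subgroup G) (hM : IsCoatom M) (hκ : kappa M = ∅) :
    DadeHypothesis (PF12.suppA M) M (supportR M) := by
  rw [suppA_eq_bookA hG hM hκ]
  exact dade_bookA hG (summaryInputs hG) hM

theorem kappa_of_typeI (M : Subgroup G) (hM : IsCoatom M) (hI : IsOfTypeI M) : kappa M = ∅ := by
  have h := summaryInputs hG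
  obtain ⟨K, U, hKU⟩ := exists_decomp h hM
  exact (eq_bot_iff_kappa hKU.hall).mp (h.typeI_conv M hM K U hKU hI).1

/-- `PF12.Inputs` from the description of the subgroups with `κ = ∅`, the exclusion of Type V and
the cyclicity of `U` in Types III and IV. -/
theorem pf12Inputs
    (data : ∀ M : Subgroup G, IsCoatom M → kappa M = ∅ → PF12.OneData M)
    (hV : ∀ L : Subgroup G, IsCoatom L → ¬ IsOfTypeV L)
    (hcyc : ∀ L W U W₂ : Subgroup G, IsCoatom L → (IsOfTypeIII L ∨ IsOfTypeIV L) →
      IsTypePWith L W U W₂ → IsCyclic U) : PF12.Inputs G where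
  minSimple := hG
  data := data
  kappa_of_typeI := kappa_of_typeI hG
  dade := dade_suppA hG
  typeP_centralizer := typeP_centralizer hG (summaryInputs hG) hV hcyc

end Cfsg.Agent.PF8
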