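import Cfsg.Agent.PF8.TypePSetup
import Cfsg.Agent.OddLocal44.PF11.Tau
import Cfsg.Agent.OddLocal44.PF11.Structure

/-!
# Peterfalvi 8: the hypotheses of §11 for a maximal subgroup of Type III or IV
-/

set_option autoImplicit false
set_option linter.unusedSectionVars false

namespace Cfsg.Agent.PF8

open Cfsg
open scoped Pointwise
open Cfsg.Agent.BGSummary

universe u

variable {G : Type u} [Group G] [Finite G] (hG : IsMinSimpleOddOrder G)
include hG

theorem groupHyp {M W₁ U W₂ : Subgroup G} (hM : IsCoatom M) (hP : IsTypePWith M W₁ U W₂)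
    (hT : IsOfTypeIII M ∨ IsOfTypeIV M) :
    OddLocal44.PF11.GroupHyp ((⁅M, M⁆ : Subgroup G).subgroupOf M) (fittingHall M)
      (U.subgroupOf M) (W₁.subgroupOf M) (W₂.subgroupOf M) (Nat.card W₂) (Nat.card W₁) := by
  obtain ⟨hdM, hWM, hdW, -⟩ := hP.W₁_compl
  obtain ⟨hFd, hUd, hFU, hmul⟩ := hP.U_compl
  have hUM := hUd.trans hdM
  have hW₂F : W₂ ≤ fittingHallOf M := hP.W₂_le.trans inf_le_left
  have hW₂M : W₂ ≤ M := (hW₂F.trans hFd).trans hdM
  have hFeq : (fittingHallOf M).subgroupOf M = fittingHall M :=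
    Subgroup.comap_map_eq_self_of_injective M.subtype_injective _
  have hti := primeTI hG hM hP
  have hprime := prime_W₁ hG hM hP (Or.inr hT)
  refine
    { odd := BGSigma.odd_card_subgroup hG M
      solvable := ?_
      K_normal := hti.normal
      H_normal := fittingHall_normal M
      H_nil := BGUniq.fittingHall_isNilpotent M
      H_hall := BGUniq.fittingHall_coprime M
      HU := ?_
      H_inf_U := ?_
      U_nil := ?_
      U_norm := ?_
      K_inf := hti.inf
      K_sup := hti.sup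
      hq := hprime
      hp := prime_W₂ hG hM hP (not_typeII_of_34 hG hM hP hT)
      hpq := fun he => hprime.ne_one (by
        have := coprime_W hG hM hP
        rw [he] at this
        exact (Nat.coprime_self _).mp this)
      card_W₁ := Nat.card_congr (Subgroup.subgroupOfEquivOfLe hWM).toEquiv
      card_W₂ := Nat.card_congr (Subgroup.subgroupOfEquivOfLe hW₂M).toEquiv
      W₂_le := fun x hx => hFeq.le (hW₂F hx)
      W₂_le' := ?_
      cent := hti.cent }
  · haveI := BGSigma.coatom_isSolvable hG hM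
    infer_instance
  · refine le_antisymm (sup_le (fun x hx => ?_) (fun x hx => hUd hx)) fun x hx => ?_
    · rw [← hFeq] at hx
      exact hFd hx
    · obtain ⟨a, ha, b, hb, hab⟩ := hmul x hx
      have e : x = (⟨a, (hFd.trans hdM) ha⟩ : M) * ⟨b, hUM hb⟩ := Subtype.ext hab
      rw [e]
      exact Subgroup.mul_mem_sup (hFeq.le ha) hb
  · refine (Subgroup.eq_bot_iff_forall _).mpr fun x hx => Subtype.ext ?_
    rw [← hFeq] at hx
    exact Subgroup.mem_bot.mp (hFU.le ⟨hx.1, hx.2⟩)
  · haveI := hP.U_nilpotent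
    exact Group.nilpotent_of_mulEquiv (Subgroup.subgroupOfEquivOfLe hUM).symm
  · intro x hx
    rw [Subgroup.mem_normalizer_iff]
    intro z
    simp only [Subgroup.mem_subgroupOf, Subgroup.coe_mul, Subgroup.coe_inv]
    exact Subgroup.mem_normalizer_iff.mp (hP.U_normal hx) z
  · intro x hx
    have h1 : (x : G) ∈ (⁅⁅M, M⁆, ⁅M, M⁆⁆ : Subgroup G) := (hP.W₂_le hx).2
    have h2 : (⁅(⁅M, M⁆ : Subgroup G).subgroupOf M, (⁅M, M⁆ : Subgroup G).subgroupOf M⁆).map
        M.subtype = ⁅⁅M, M⁆, ⁅M, M⁆⁆ := by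
      rw [Subgroup.map_commutator, Subgroup.map_subgroupOf_eq_of_le hdM]
    obtain ⟨y, hy, hyx⟩ := h2.symm.le h1
    exact Subtype.ext hyx ▸ hy

theorem setup {M W₁ U W₂ : Subgroup G} (hM : IsCoatom M) (hP : IsTypePWith M W₁ U W₂)
    (hT : IsOfTypeIII M ∨ IsOfTypeIV M) :
    OddLocal44.PF11.Setup (typeA0 M) M (supportR M) ((⁅M, M⁆ : Subgroup G).subgroupOf M)
      (W₁.subgroupOf M) (W₂.subgroupOf M) := by
  have hcore : fittingHallOf M ≤ typeCore M := by
    rw [typeCore, if_pos hT]
    exact hP.U_compl.1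
  have hPD := primeDade hG hM hP hcore (hP.W₂_le.trans inf_le_left)
    (BGSummary.le_normalizer_fittingHallOf M)
  exact ⟨hPD.pti, hPD.cyc, hPD.dade,
    fun x hx hx1 => Or.inl (mem_typeA_of_derived hG hM hP hT hx fun h0 => hx1 (Subtype.ext h0)),
    hPD.offA₀⟩

end Cfsg.Agent.PF8
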