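import Cfsg.Agent.PF8.Inputs
import Cfsg.Agent.FT.TypeP

/-!
# Peterfalvi 8: maximal subgroups of type `P` with given data `(W₁, U, W₂)`
-/

set_option autoImplicit false
set_option linter.unusedSectionVars false

namespace Cfsg.Agent.PF8

open Cfsg
open scoped Pointwise
open Cfsg.Agent.BGSummary
open Cfsg.Agent.BGSigma (sigmaCore_le le_normalizer_sigmaCore isPiSub_sigmaCore)

universe u

variable {G : Type u} [Group G] [Finite G] (hG : IsMinSimpleOddOrder G)
include hG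

theorem typeInputs : TypeInputs G :=
  TypeInputs.of_local hG (BGSummary.localStructure hG)

/-- `W₁` is a Hall `κ`-subgroup of a standard factorisation and `W₂ = C_{M_σ}(W₁)`. -/
theorem decomp_of_typePWith {M W₁ U W₂ : Subgroup G} (hM : IsCoatom M)
    (hP : IsTypePWith M W₁ U W₂) :
    (∃ U₀ : Subgroup G, IsSigmaDecomposition M W₁ U₀) ∧
      W₂ = sigmaCore M ⊓ Subgroup.centralizer (W₁ : Set G) ∧ (kappa M).Nonempty :=
  ⟨FT.exists_decomp_of_typeP hG hM hP, FT.W₂_eq hG hM hP, FT.kappa_nonempty hG hM hP⟩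

/-- Type `P` data on a given standard factorisation. -/
theorem exists_typePWith {M K U : Subgroup G} (hM : IsCoatom M)
    (hKU : IsSigmaDecomposition M K U) (hK : K ≠ ⊥) :
    ∃ V : Subgroup G, IsTypePWith M K V (sigmaCore M ⊓ Subgroup.centralizer (K : Set G)) ∧
      (U ≠ ⊥ → V = U) := by
  have h := typeInputs hG
  have hd := (h.derived M hM K U hKU hK).1
  by_cases hU : U = ⊥
  · obtain ⟨V, hVn, hKV, hVc⟩ := exists_invariant_compl hG h hM hKU
      (by rw [hd, hU, bot_sup_eq])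
    exact ⟨V, typePWith_of_compl hG h hM hKU hK hVn hKV hVc, fun h0 => absurd hU h0⟩
  · have hUM := hKU.compl.1
    have hUc : IsComplIn (fittingHallOf M) U ⁅M, M⁆ := by
      rw [fittingHallOf_eq_sigma h hM hKU hU, hd]
      refine TypeCore.complIn_of_sup le_sup_right le_sup_left
        (hUM.trans (le_normalizer_sigmaCore M)) ?_ (sup_comm _ _).le
      rw [inf_comm]
      exact le_bot_iff.mp ((inf_le_inf_left U le_sup_right).trans hKU.compl.2.2.1.le)
    have hUn : Group.IsNilpotent U := by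
      haveI := (h.complement_abelian M hM K U hKU hK).1
      open scoped IsMulCommutative in exact CommGroup.isNilpotent
    exact ⟨U, typePWith_of_compl hG h hM hKU hK hUn hKU.normal hUc, fun _ => rfl⟩

/-- The orders of `W₁` and `W₂` are coprime. -/
theorem coprime_W {M W₁ U W₂ : Subgroup G} (hM : IsCoatom M) (hP : IsTypePWith M W₁ U W₂) :
    (Nat.card W₁).Coprime (Nat.card W₂) := by
  obtain ⟨⟨U₀, hKU⟩, hW₂, -⟩ := decomp_of_typePWith hG hM hP
  exact (TypeCore.coprime_kappa hKU.hall).coprime_dvd_right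
    (Subgroup.card_dvd_of_le (hW₂.le.trans inf_le_left))

theorem not_typeI {M W₁ U W₂ : Subgroup G} (hM : IsCoatom M) (hP : IsTypePWith M W₁ U W₂) :
    ¬ IsOfTypeI M := fun hI => by
  obtain ⟨⟨U₀, hKU⟩, -, -⟩ := decomp_of_typePWith hG hM hP
  exact hP.W₁_ne ((summaryInputs hG).typeI_conv M hM W₁ U₀ hKU hI).1

/-- `W₁` has prime order unless `M` is of Type V. -/
theorem prime_W₁ {M W₁ U W₂ : Subgroup G} (hM : IsCoatom M) (hP : IsTypePWith M W₁ U W₂)
    (hT : IsOfTypeII M ∨ IsOfTypeIII M ∨ IsOfTypeIV M) : (Nat.card W₁).Prime := by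
  have h := typeInputs hG
  obtain ⟨⟨U₀, hKU⟩, -, -⟩ := decomp_of_typePWith hG hM hP
  rcases hT with h2 | h34
  · exact (h.fitting_ti M hM W₁ U₀ hKU hP.W₁_ne
      ((typeII_stmt hG h M hM W₁ U₀ hKU).mp h2).2).1
  · exact (h.fitting_ne M hM W₁ U₀ hKU ((typeIII_IV_stmt hG h M hM W₁ U₀ hKU).mp h34).2.2).2.2

/-- In Type II `M_F = M_σ` and `F(M)` is a TI-subset. -/
theorem typeII_of_typePWith {M W₁ U W₂ : Subgroup G} (hM : IsCoatom M)
    (hP : IsTypePWith M W₁ U W₂) (hII : IsOfTypeII M) :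
    fittingHallOf M = sigmaCore M ∧ IsTISubset (fittingOf M : Set G) := by
  have h := typeInputs hG
  obtain ⟨⟨U₀, hKU⟩, -, -⟩ := decomp_of_typePWith hG hM hP
  have hU₀ := ((typeII_stmt hG h M hM W₁ U₀ hKU).mp hII).2
  exact ⟨fittingHallOf_eq_sigma h hM hKU hU₀, (h.fitting_ti M hM W₁ U₀ hKU hP.W₁_ne hU₀).2.1⟩

/-- Every maximal subgroup with type `P` data has a partner with the data reversed; one of the
two is of Type II. -/
theorem exists_partner {M W₁ U W₂ : Subgroup G} (hM : IsCoatom M)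
    (hP : IsTypePWith M W₁ U W₂) :
    ∃ S V : Subgroup G, IsCoatom S ∧ IsTypePWith S W₂ V W₁ ∧ M ⊓ S = W₁ ⊔ W₂ ∧
      (IsOfTypeII M ∨ IsOfTypeII S) ∧
      (∀ H : Subgroup G, IsCoatom H → (kappa H).Nonempty →
        ∃ g : G, H = M.map (MulAut.conj g).toMonoidHom ∨ H = S.map (MulAut.conj g).toMonoidHom) := by
  have h := summaryInputs hG
  obtain ⟨⟨U₀, hKU⟩, hW₂, -⟩ := decomp_of_typePWith hG hM hP
  have hK := hP.W₁_ne
  obtain ⟨S, ⟨hS, hSK, hShall⟩, -⟩ := h.star M hM W₁ U₀ hKU hK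
  obtain ⟨hinf, -⟩ := h.star_inf M hM W₁ U₀ hKU hK S hS hSK hShall
  obtain ⟨hor, hclass⟩ := h.star_class M hM W₁ U₀ hKU hK S hS hSK hShall
  rw [← hW₂] at hShall hinf hor
  have hSK' : W₁ = sigmaCore S ⊓ Subgroup.centralizer (W₂ : Set G) := by
    rw [hW₂]; exact hSK
  have hW₂0 : W₂ ≠ ⊥ := hP.selfNormalizing.2.1
  obtain ⟨⟨U', hKU'⟩, -⟩ := h.decomp S hS W₂ ((h.kappa_hall S hS).2 W₂ hShall) hShall
  obtain ⟨V, hV, -⟩ := exists_typePWith hG hS hKU' hW₂0
  rw [← hSK'] at hV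
  refine ⟨S, V, hS, hV, hinf, ?_, hclass⟩
  rcases hor with hU | hU
  · exact Or.inl ((h.typeII_iff M hM W₁ U₀ hKU).mpr ⟨hK, hU⟩)
  · exact Or.inr ((h.typeII_iff S hS W₂ U' hKU').mpr ⟨hW₂0, hU U' hKU'⟩)

/-- For a type II subgroup: a non-identity element of `V` centralizing a non-identity element of
the core has its centralizer in this subgroup only. -/
theorem centralizer_uniq_of_compl {S W₂ V W₁ : Subgroup G} (hS : IsCoatom S)
    (hP : IsTypePWith S W₂ V W₁) (hII : IsOfTypeII S) {u : G} (hu : u ∈ V) (hu1 : u ≠ 1)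
    (hC : fittingHallOf S ⊓ Subgroup.centralizer ({u} : Set G) ≠ ⊥) :
    ∀ L : Subgroup G, IsCoatom L → Subgroup.centralizer ({u} : Set G) ≤ L → L = S := by
  have h := summaryInputs hG
  obtain ⟨hF, -⟩ := typeII_of_typePWith hG hS hP hII
  obtain ⟨⟨U₀, hKU⟩, -, -⟩ := decomp_of_typePWith hG hS hP
  obtain ⟨y, hy, hy1⟩ := (Subgroup.bot_or_exists_ne_one _).resolve_left hC
  have huy : u * y = y * u := (Subgroup.mem_centralizer_singleton_iff.mp hy.2).symm
  have hud : u ∈ U₀ ⊔ sigmaCore S := by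
    rw [← (h.derived S hS W₂ U₀ hKU hP.W₁_ne).1]
    exact hP.U_compl.2.1 hu
  have hSn := le_normalizer_sigmaCore S
  have hUS := le_of_decomp hKU hud
  have hcop : (orderOf u).Coprime (Nat.card (sigmaCore S)) := by
    have hdM : ⁅S, S⁆ ≤ S := Subgroup.commutator_le_self S
    have hc := card_eq_of_complIn hP.U_compl (hdM.trans (BGSummary.le_normalizer_fittingHallOf S))
    refine Nat.Coprime.coprime_dvd_left (Subgroup.orderOf_dvd_natCard _ hu) ?_
    rw [← hc, ← hF]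
    exact ((BGSummary.fittingHallOf_relIndex_coprime S).coprime_dvd_right
      ⟨(⁅S, S⁆ : Subgroup G).relIndex S,
        (Subgroup.relIndex_mul_relIndex _ _ _ hP.U_compl.1 hdM).symm⟩).symm
  obtain ⟨k, hk, hkA⟩ := Coprime.exists_conj_le_of_le_sup (Subgroup.zpowers u) (sigmaCore S) U₀
    ((Subgroup.zpowers_le.mpr hUS).trans hSn) (hKU.compl.1.trans hSn)
    (by rw [Nat.card_zpowers]; exact hcop)
    (Or.inr (Coprime.solvable_of_le (sigmaCore_le S) (BGSigma.coatom_isSolvable hG hS)))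
    (by rw [Subgroup.zpowers_le, sup_comm]; exact hud)
  have hkS : k ∈ S := sigmaCore_le S hk
  have hyσ : y ∈ sigmaCore S := hF ▸ hy.1
  have hX : Subgroup.zpowers (k * u * k⁻¹) ≠ ⊥ := fun h0 =>
    hu1 (conj_eq_one_iff.mp (Subgroup.zpowers_eq_bot.mp h0))
  have hXc : sigmaCore S ⊓ Subgroup.centralizer (Subgroup.zpowers (k * u * k⁻¹) : Set G) ≠ ⊥ := by
    intro h0
    refine hy1 (conj_eq_one_iff.mp (Subgroup.mem_bot.mp (h0.le (x := k * y * k⁻¹)
      ⟨conj_mem_sigmaCore hkS hyσ, ?_⟩)))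
    rw [Subgroup.zpowers_eq_closure, Subgroup.centralizer_closure]
    exact conj_mem_centralizer_singleton (Subgroup.mem_centralizer_singleton_iff.mpr huy.symm)
  obtain ⟨-, h2⟩ := h.centralizer_uniq S hS W₂ U₀ hKU _
    (Subgroup.zpowers_le.mpr (hkA u (Subgroup.mem_zpowers u))) hX hXc
  rw [Subgroup.zpowers_eq_closure, Subgroup.centralizer_closure] at h2
  intro L hL hle
  have h3 := h2 _ (BGSigma.isCoatom_map_conj hL k) fun c hc => by
    rw [BGSigma.mem_map_conj]
    refine hle ?_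
    have h4 := conj_mem_centralizer_singleton (m := k⁻¹) hc
    simpa [mul_assoc] using h4
  rw [← BGSigma.map_conj_eq_self (X := S) (Subgroup.le_normalizer hkS)] at h3
  exact Subgroup.map_injective (MulAut.conj k).injective h3

/-- In Types III and IV the partner is of Type II and `|W₂|` is a prime. -/
theorem prime_W₂ {M W₁ U W₂ : Subgroup G} (hM : IsCoatom M) (hP : IsTypePWith M W₁ U W₂)
    (hT : ¬ IsOfTypeII M) : (Nat.card W₂).Prime := by
  obtain ⟨S, V, hS, hV, -, hor, -⟩ := exists_partner hG hM hP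
  exact prime_W₁ hG hS hV (Or.inl (hor.resolve_left hT))

theorem not_typeII_of_34 {M W₁ U W₂ : Subgroup G} (hM : IsCoatom M)
    (hP : IsTypePWith M W₁ U W₂) (hT : IsOfTypeIII M ∨ IsOfTypeIV M) : ¬ IsOfTypeII M := by
  have h := typeInputs hG
  obtain ⟨⟨U₀, hKU⟩, -, -⟩ := decomp_of_typePWith hG hM hP
  exact fun hII => ((typeII_stmt hG h M hM W₁ U₀ hKU).mp hII).2
    ((typeIII_IV_stmt hG h M hM W₁ U₀ hKU).mp hT).2.1

end Cfsg.Agent.PF8
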