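import Cfsg.Agent.PF8.Inputs
import Cfsg.Agent.BGTwelve.Compl

/-!
# Peterfalvi 8: which maximal subgroups support which

Everything is proved for `bookA`; the passage to `typeA` needs that `κ(M) = ∅` gives Type I.
-/

set_option autoImplicit false
set_option linter.unusedSectionVars false

namespace Cfsg.Agent.PF8

open Cfsg
open scoped Pointwise
open Cfsg.Agent.BGSummary
open Cfsg.Agent.BGSigma (sigmaCore_le le_normalizer_sigmaCore isPiSub_sigmaCore)

universe u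

variable {G : Type u} [Group G] [Finite G]

/-- The `π`-part of a product of commuting elements is a power of it. -/
theorem pow_eq_left {a r : G} (hc : Commute a r) (hco : (orderOf a).Coprime (orderOf r)) :
    ∃ n : ℕ, (a * r) ^ n = a := by
  obtain ⟨k, hk1, hk0⟩ := Nat.chineseRemainder hco 1 0
  refine ⟨k, ?_⟩
  have e1 : a ^ k = a := by
    conv_rhs => rw [← pow_one a]
    exact pow_eq_pow_iff_modEq.2 hk1
  have e0 : r ^ k = 1 := by
    rw [← pow_zero r]
    exact pow_eq_pow_iff_modEq.2 hk0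
  rw [hc.mul_pow, e1, e0, mul_one]

variable (hG : IsMinSimpleOddOrder G) (h : SummaryInputs G)
include hG h

theorem sigma_disjoint_of {S T : Subgroup G} (hS : IsCoatom S) (hT : IsCoatom T)
    (hnc : ∀ g : G, T.map (MulAut.conj g).toMonoidHom ≠ S) {p : ℕ} (hpS : p ∈ sigma S)
    (hpT : p ∈ sigma T) : False := by
  obtain ⟨g, hg⟩ := h.sigma_partition.2 T S hT hS ⟨p, hpT, hpS⟩
  exact hnc g hg.symm

/-- An element of `S_σ` in `A(T)`, for `T` not conjugate to `S`, has its centralizer in `T` and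
not in `S`. -/
theorem supports_key {S T : Subgroup G} (hS : IsCoatom S) (hT : IsCoatom T)
    (hnc : ∀ g : G, T.map (MulAut.conj g).toMonoidHom ≠ S) {x : G} (hx : x ∈ sigmaCore S)
    (hxA : x ∈ bookA T) :
    ¬ Subgroup.centralizer ({x} : Set G) ≤ S ∧ Subgroup.centralizer ({x} : Set G) ≤ T := by
  obtain ⟨K, U, hKU⟩ := exists_decomp h hT
  obtain ⟨hxU, hx1, y, hy, hy1, hxy⟩ := (mem_bookA_iff hG h hT hKU).mp hxA
  have hxT : x ∉ sigmaCore T := fun hσ => by
    obtain ⟨p, hp, hpd⟩ := Nat.exists_prime_and_dvd (mt orderOf_eq_one_iff.mp hx1)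
    exact sigma_disjoint_of hG h hS hT hnc
      (isPiSub_sigmaCore S p hp (hpd.trans (Subgroup.orderOf_dvd_natCard _ hx)))
      (isPiSub_sigmaCore T p hp (hpd.trans (Subgroup.orderOf_dvd_natCard _ hσ)))
  obtain ⟨hCT, -⟩ := of_not_sigma hG h hT hxA hxT
  refine ⟨fun hCS => ?_, hCT⟩
  -- an element `z` of prime order outside `σ(T)` and an element `w` of prime order of `T_σ`
  obtain ⟨r, n, hr, hrT, hzo⟩ := exists_prime_power h hT (le_of_decomp hKU hxU) hxT
  obtain ⟨q, hq, hqd⟩ := Nat.exists_prime_and_dvd (mt orderOf_eq_one_iff.mp hy1)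
  set z := x ^ n with hz
  set w := y ^ (orderOf y / q) with hw
  have hwo : orderOf w = q := orderOf_pow_orderOf_div (orderOf_pos y).ne' hqd
  have hwT : w ∈ sigmaCore T := pow_mem hy _
  have hw1 : w ≠ 1 := fun h0 => hq.ne_one (by rw [← hwo, h0, orderOf_one])
  have hz1 : z ≠ 1 := fun h0 => hr.ne_one (by rw [← hzo, h0, orderOf_one])
  have hzS : z ∈ sigmaCore S := pow_mem hx _
  have hzw : z * w = w * z := ((show Commute x y from hxy).pow_pow n _).eq
  have hxw : x * w = w * x := ((show Commute x y from hxy).pow_right _).eq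
  obtain ⟨-, hzu⟩ := centralizer_uniq_of_mem h hT hKU (pow_mem hxU n) hr hrT hzo hwT hw1 hzw
  have hwS : w ∈ S := hCS (Subgroup.mem_centralizer_singleton_iff.mpr hxw.symm)
  have hqT : q ∈ sigma T := isPiSub_sigmaCore T q hq (hwo ▸ Subgroup.orderOf_dvd_natCard _ hwT)
  have hall : ∀ p : ℕ, p.Prime → p ∣ orderOf w → p = q := fun p hp hpd =>
    (Nat.prime_dvd_prime_iff_eq hp hq).mp (hwo ▸ hpd)
  rcases h.sigma_prime_commute S hS z hzS hz1 w
    ⟨hwS, Subgroup.mem_centralizer_singleton_iff.mpr hzw.symm⟩ hw1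
    (fun p hp hpd hpS => sigma_disjoint_of hG h hS hT hnc hpS (hall p hp hpd ▸ hqT))
    with ⟨-, hle⟩ | ⟨-, -, hCw, hwu⟩
  · exact hnc 1 (by rw [BGSigma.map_conj_one]; exact (hzu S hS hle).symm)
  have hwnT : ¬ Subgroup.centralizer ({w} : Set G) ≤ T := fun hle =>
    hnc 1 (by rw [BGSigma.map_conj_one]; exact hwu T hT hle)
  have hrS : r ∈ sigma S := isPiSub_sigmaCore S r hr (hzo ▸ Subgroup.orderOf_dvd_natCard _ hzS)
  have hzT : z ∈ T := pow_mem (le_of_decomp hKU hxU) n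
  obtain ⟨hκ, hτ⟩ := (h.support_primes T hT w hwT hw1 hwnT S hS hCw).1
    ⟨r, hrS, hzo ▸ Subgroup.orderOf_dvd_natCard _ hzT⟩
  rcases h.sigma_prime_commute T hT w hwT hw1 z
    ⟨hzT, Subgroup.mem_centralizer_singleton_iff.mpr hzw⟩ hz1
    (fun p hp hpd => by
      rw [hzo] at hpd
      rwa [(Nat.prime_dvd_prime_iff_eq hp hr).mp hpd]) with ⟨h1, -⟩ | ⟨h1, -⟩
  · exact (hκ ▸ h1 r hr hzo.symm.dvd : r ∈ (∅ : Set ℕ))
  · exact (hτ ▸ h1 r hr hzo.symm.dvd : r ∈ (∅ : Set ℕ))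

/-- The subgroup over `C(x)` for `x ∈ S_σ` with centralizer not in `S` has `x` in its `A`. -/
theorem mem_bookA_of_supports {S T : Subgroup G} (hS : IsCoatom S) (hT : IsCoatom T) {x : G}
    (hx : x ∈ sigmaCore S) (hx1 : x ≠ 1) (hxC : ¬ Subgroup.centralizer ({x} : Set G) ≤ S)
    (hxT : Subgroup.centralizer ({x} : Set G) ≤ T) :
    x ∈ bookA T ∧ x ∉ sigmaCore T ∧ sigmaCore T = fittingHallOf T ∧
      (kappa T = ∅ ∨ IsOfTypeII T) := by
  obtain ⟨N, -, hNu, hσF, -, -, -, hNd⟩ := h.signalizer S hS x hx hx1 hxC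
  obtain rfl := hNu T hT hxT
  obtain ⟨K, U, hKU⟩ := exists_decomp h hT
  obtain ⟨hU, ⟨⟨-, y, hy, hy1, hxy⟩, hxU⟩, hxσ⟩ := hNd K U hKU
  refine ⟨(mem_bookA_iff hG h hT hKU).mpr ⟨hxU, hx1, y, hy, hy1, hxy⟩, hxσ, hσF, ?_⟩
  by_cases hK : K = ⊥
  · exact Or.inl ((eq_bot_iff_kappa hKU.hall).mp hK)
  · exact Or.inr ((h.typeII_iff T hT K U hKU).mpr ⟨hK, hU⟩)

theorem not_conj_map {S T : Subgroup G} (hnc : ∀ g : G, T.map (MulAut.conj g).toMonoidHom ≠ S)
    (c : G) : ∀ g : G, T.map (MulAut.conj g).toMonoidHom ≠ S.map (MulAut.conj c).toMonoidHom := by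
  intro g he
  refine hnc (c⁻¹ * g) ?_
  rw [← BGSigma.map_conj_comp, he, BGSigma.map_conj_comp, inv_mul_cancel, BGSigma.map_conj_one]

/-- `S1539`, given that `κ = ∅` gives Type I. -/
theorem supporting_stmt (hI : TypeICriterion G) (S T : Subgroup G) (hS : IsCoatom S)
    (hT : IsCoatom T) (hnc : ∀ g : G, T.map (MulAut.conj g).toMonoidHom ≠ S) :
    (Supports T S ↔ (typeA1 S ∩ typeA T).Nonempty) ∧
      (∀ x ∈ typeA1 S ∩ typeA T,
        ¬ Subgroup.centralizer ({x} : Set G) ≤ S ∧ Subgroup.centralizer ({x} : Set G) ≤ T) ∧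
      ((∃ g : G, Supports (T.map (MulAut.conj g).toMonoidHom) S) ↔
        (tildeOf S (typeA1 S) ∩ tildeOf T (typeA T)).Nonempty) ∧
      (tildeOf S (typeA1 S) ∩ tildeOf T (typeA T) = ∅ ∨
        tildeOf T (typeA1 T) ∩ tildeOf S (typeA S) = ∅) := by
  have hAeq : ∀ M : Subgroup G, IsCoatom M → typeA M = bookA M := fun M hM =>
    typeA_eq_bookA hG h hM fun hκ => by
      obtain ⟨K, U, hKU⟩ := exists_decomp h hM
      exact (typeI_iff h hG hI hM hKU).mpr ((eq_bot_iff_kappa hKU.hall).mpr hκ)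
  have hA1 : ∀ {M : Subgroup G}, IsCoatom M → ∀ {x : G},
      x ∈ typeA1 M ↔ x ∈ sigmaCore M ∧ x ≠ 1 := fun {M} hM {x} => by
    simp [typeA1, typeCore_eq h hM]
  have key : ∀ x ∈ typeA1 S ∩ typeA T,
      ¬ Subgroup.centralizer ({x} : Set G) ≤ S ∧ Subgroup.centralizer ({x} : Set G) ≤ T := by
    rintro x ⟨hx, hxA⟩
    exact supports_key hG h hS hT hnc ((hA1 hS).mp hx).1 (hAeq T hT ▸ hxA)
  -- a supporting conjugate of `T`
  have hfwd : ∀ {S T : Subgroup G}, IsCoatom S → IsCoatom T → ∀ {g : G},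
      Supports (T.map (MulAut.conj g).toMonoidHom) S →
      ∃ x : G, x ∈ sigmaCore S ∧ x ≠ 1 ∧ ¬ Subgroup.centralizer ({x} : Set G) ≤ S ∧
        g⁻¹ * x * g ∈ bookA T ∧ g⁻¹ * x * g ∉ sigmaCore T := by
    rintro S T hS hT g ⟨-, x, hx, hxC, hxT⟩
    obtain ⟨hxσ, hx1⟩ := of_not_le hG h hS (Or.inr hx) hxC
    have hS' := BGSigma.isCoatom_map_conj hS g⁻¹
    have e : g⁻¹ * x * g⁻¹⁻¹ = g⁻¹ * x * g := by rw [inv_inv]
    have h1 : g⁻¹ * x * g ∈ sigmaCore (S.map (MulAut.conj g⁻¹).toMonoidHom) := by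
      rw [BGSigma.sigmaCore_map_conj hG hS]
      exact ⟨x, hxσ, e⟩
    obtain ⟨h2, h3, -⟩ := mem_bookA_of_supports hG h hS' hT h1
      (fun h0 => hx1 (by simpa [mul_assoc] using congrArg (fun t => g * t * g⁻¹) h0))
      (fun hle => hxC fun c hc => by
        have h4 := hle (x := g⁻¹ * c * g) (by
          have := conj_mem_centralizer_singleton (m := g⁻¹) hc
          simpa using this)
        rw [BGSigma.mem_map_conj] at h4
        simpa [mul_assoc] using h4)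
      (fun c hc => by
        have h4 := hxT (x := g * c * g⁻¹) (by
          have := conj_mem_centralizer_singleton (m := g) hc
          simpa [mul_assoc] using this)
        rw [BGSigma.mem_map_conj] at h4
        simpa [mul_assoc] using h4)
    exact ⟨x, hxσ, hx1, hxC, h2, h3⟩
  have hbwd : ∀ {S T : Subgroup G}, IsCoatom S → IsCoatom T →
      (∀ g : G, T.map (MulAut.conj g).toMonoidHom ≠ S) →
      (tildeOf S (typeA1 S) ∩ tildeOf T (typeA T)).Nonempty →
      ∃ g : G, Supports (T.map (MulAut.conj g).toMonoidHom) S := by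
    rintro S T hS hT hnc ⟨g, ⟨a, ha, r, hr, y, hg⟩, b, hb, s, hs, y', hg'⟩
    obtain ⟨haσ, ha1⟩ := (hA1 hS).mp ha
    have ha0 : a ∈ typeA0 S := Or.inl (typeA1_subset hG h hS ha)
    obtain ⟨har, hrS⟩ := BGSigma.supportR_mem hG hS haσ ha1 hr
    have haS : ∀ p : ℕ, p.Prime → p ∣ orderOf a → p ∈ sigma S := fun p hp hd =>
      isPiSub_sigmaCore S p hp (hd.trans (Subgroup.orderOf_dvd_natCard _ haσ))
    set c := y'⁻¹ * y with hc
    have hab : c * (a * r) * c⁻¹ = b * s := by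
      have e : y * (a * r) * y⁻¹ = y' * (b * s) * y'⁻¹ := hg.symm.trans hg'
      calc c * (a * r) * c⁻¹ = y'⁻¹ * (y * (a * r) * y⁻¹) * y' := by rw [hc]; group
        _ = b * s := by rw [e]; group
    rw [hAeq T hT] at hb
    by_cases hbσ : b ∈ sigmaCore T
    · have hb1 := hb.2.1
      obtain ⟨hbs, hsT⟩ := BGSigma.supportR_mem hG hT hbσ hb1 hs
      have hbT : ∀ p : ℕ, p.Prime → p ∣ orderOf b → p ∈ sigma T := fun p hp hd =>
        isPiSub_sigmaCore T p hp (hd.trans (Subgroup.orderOf_dvd_natCard _ hbσ))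
      obtain ⟨p, hp, hpb⟩ := Nat.exists_prime_and_dvd (mt orderOf_eq_one_iff.mp hb1)
      have hbord : orderOf b ∣ orderOf (a * r) := by
        obtain ⟨n, hn⟩ := pow_eq_left hbs (Nat.coprime_of_dvd fun q hq h1 h2 =>
          hsT q hq h2 (hbT q hq h1))
        have e1 : orderOf (b * s) = orderOf (a * r) := by
          rw [← hab]; exact MulEquiv.orderOf_eq (MulAut.conj c) (a * r)
        calc orderOf b = orderOf ((b * s) ^ n) := by rw [hn]
          _ ∣ orderOf (b * s) := orderOf_pow_dvd n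
          _ = orderOf (a * r) := e1
      have hpar : p ∣ orderOf a * orderOf r :=
        (hpb.trans hbord).trans (har.orderOf_mul_dvd_mul_orderOf)
      have hpr : p ∣ orderOf r := (hp.dvd_mul.mp hpar).resolve_left fun hpa =>
        sigma_disjoint_of hG h hS hT hnc (haS p hp hpa) (hbT p hp hpb)
      by_cases hC : Subgroup.centralizer ({a} : Set G) ≤ S
      · rw [BGSigma.supportR_of_le hG hC, Subgroup.mem_bot] at hr
        rw [hr, orderOf_one] at hpr
        exact absurd hpr hp.not_dvd_one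
      · obtain ⟨L, E, hL, -, -, -, hCL, -, -, hR⟩ := BGSigma.supportR_of_not_le hG hS haσ ha1 hC
        rw [hR] at hr
        obtain ⟨g₀, hg₀⟩ := h.sigma_partition.2 T L hT hL ⟨p, hbT p hp hpb,
          isPiSub_sigmaCore L p hp (hpr.trans (Subgroup.orderOf_dvd_natCard _ hr.1))⟩
        exact ⟨g₀, hg₀ ▸ ⟨hL, a, ha0, hC, hCL⟩⟩
    · rw [BGSigma.supportR_of_le hG (of_not_sigma hG h hT hb hbσ).1, Subgroup.mem_bot] at hs
      subst hs
      rw [mul_one] at hab
      obtain ⟨n, hn⟩ := pow_eq_left har (Nat.coprime_of_dvd fun q hq h1 h2 =>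
        hrS q hq h2 (haS q hq h1))
      set a' := c * a * c⁻¹ with ha'
      have ha'b : a' = b ^ n := by rw [← hab, conj_pow, hn]
      have ha'1 : a' ≠ 1 := fun h0 => ha1 (conj_eq_one_iff.mp h0)
      have hS' := BGSigma.isCoatom_map_conj hS c
      have ha'σ : a' ∈ sigmaCore (S.map (MulAut.conj c).toMonoidHom) := by
        rw [BGSigma.sigmaCore_map_conj hG hS]
        exact ⟨a, haσ, rfl⟩
      have ha'A : a' ∈ bookA T := by
        obtain ⟨h1, -, w, hw, hw1, hbw⟩ := hb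
        exact ⟨ha'b ▸ pow_mem h1 n, ha'1, w, hw, hw1,
          by rw [ha'b]; exact ((show Commute b w from hbw).pow_left n).eq⟩
      obtain ⟨h1, h2⟩ := supports_key hG h hS' hT (not_conj_map hG h hnc c) ha'σ ha'A
      refine ⟨c⁻¹, BGSigma.isCoatom_map_conj hT c⁻¹, a, ha0, fun hle => h1 ?_, ?_⟩
      · rw [ha', ← BGSigma.map_conj_centralizer_one]
        exact Subgroup.map_mono hle
      · intro x hx
        rw [BGSigma.mem_map_conj, inv_inv]
        exact h2 (conj_mem_centralizer_singleton hx)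
  refine ⟨⟨?_, ?_⟩, key, ⟨?_, hbwd hS hT hnc⟩, ?_⟩
  · intro hsup
    obtain ⟨-, x, hx, hxC, hxT⟩ := hsup
    obtain ⟨hxσ, hx1⟩ := of_not_le hG h hS (Or.inr hx) hxC
    exact ⟨x, (hA1 hS).mpr ⟨hxσ, hx1⟩,
      (hAeq T hT).symm ▸ (mem_bookA_of_supports hG h hS hT hxσ hx1 hxC hxT).1⟩
  · rintro ⟨x, hx⟩
    exact ⟨hT, x, Or.inl (typeA1_subset hG h hS hx.1), (key x hx).1, (key x hx).2⟩
  · rintro ⟨g, hsup⟩
    obtain ⟨x, hxσ, hx1, -, hxA, -⟩ := hfwd hS hT hsup
    exact ⟨x, ⟨x, (hA1 hS).mpr ⟨hxσ, hx1⟩, 1, one_mem _, 1, by group⟩,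
      g⁻¹ * x * g, (hAeq T hT).symm ▸ hxA, 1, one_mem _, g, by group⟩
  · by_contra hne
    push Not at hne
    obtain ⟨h1, h2⟩ := hne
    have hnc' : ∀ g : G, S.map (MulAut.conj g).toMonoidHom ≠ T := fun g he => by
      refine hnc g⁻¹ ?_
      rw [← he, BGSigma.map_conj_comp, inv_mul_cancel, BGSigma.map_conj_one]
    obtain ⟨g, hg⟩ := hbwd hS hT hnc h1
    obtain ⟨g', hg'⟩ := hbwd hT hS hnc' h2
    obtain ⟨w, hwσ, hw1, -, hwA, -⟩ := hfwd hT hS hg'
    set z := g'⁻¹ * w * g' with hz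
    have hzo : orderOf z = orderOf w := by
      simpa using MulEquiv.orderOf_eq (MulAut.conj g'⁻¹) w
    obtain ⟨q, hq, hqd⟩ := Nat.exists_prime_and_dvd (mt orderOf_eq_one_iff.mp hw1)
    have hqT : q ∈ sigma T := isPiSub_sigmaCore T q hq
      (hqd.trans (Subgroup.orderOf_dvd_natCard _ hwσ))
    obtain ⟨-, x, hx, hxC, hxN⟩ := id hg
    obtain ⟨hxσ, hx1⟩ := of_not_le hG h hS (Or.inr hx) hxC
    have hzS : z ∈ S := bookA_subset hwA
    obtain ⟨hκ, hτ⟩ := (h.support_primes S hS x hxσ hx1 hxC _ hg.1 hxN).1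
      ⟨q, sigma_subset_conj hqT, (hzo ▸ hqd).trans (Subgroup.orderOf_dvd_natCard _ hzS)⟩
    obtain ⟨-, hz1, v, hv, hv1, hzv⟩ := hwA
    set u := z ^ (orderOf z / q) with hu
    have huo : orderOf u = q := orderOf_pow_orderOf_div (orderOf_pos z).ne' (hzo ▸ hqd)
    rcases h.sigma_prime_commute S hS v hv hv1 u
      ⟨pow_mem hzS _, Subgroup.mem_centralizer_singleton_iff.mpr
        ((show Commute z v from hzv).pow_left _).eq⟩
      (fun h0 => hq.ne_one (by rw [← huo, h0, orderOf_one]))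
      (fun p hp hpd hpS => by
        rw [huo] at hpd
        rw [(Nat.prime_dvd_prime_iff_eq hp hq).mp hpd] at hpS
        exact sigma_disjoint_of hG h hS hT hnc hpS hqT) with ⟨h3, -⟩ | ⟨h3, -⟩
    · exact (hκ ▸ h3 q hq huo.symm.dvd : q ∈ (∅ : Set ℕ))
    · exact (hτ ▸ h3 q hq huo.symm.dvd : q ∈ (∅ : Set ℕ))

end Cfsg.Agent.PF8
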