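import Cfsg.Agent.BGSummary.Supports
import Cfsg.Agent.BGSummary.OfLocal
import Cfsg.Agent.BGSigma.SupportR
import Cfsg.Prelude.Def_OddOrderChar

/-!
# Peterfalvi 8: the sets `A₁(M)`, `A(M)`, `A₀(M)` and the Dade hypothesis

`bookA M` is `A(M)` read with `κ(M) = ∅` in place of "Type I". The sets `A₁(M)` and `A(M)` lie in
it, so the Dade hypothesis is proved once for `bookA0 M = bookA M ∪ A₀(M)` and restricted.
-/

set_option autoImplicit false
set_option linter.unusedSectionVars false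

namespace Cfsg.Agent.PF8

open Cfsg
open scoped Pointwise
open Cfsg.Agent.BGSummary
open Cfsg.Agent.BGSigma (sigmaCore_le le_normalizer_sigmaCore isPiSub_sigmaCore)

universe u

variable {G : Type u} [Group G] [Finite G]

open scoped Classical in
/-- `A(M)` with `κ(M) = ∅` in place of Type I. -/
noncomputable def bookA (M : Subgroup G) : Set G :=
  {a | a ∈ (if kappa M = ∅ then M else ⁅M, M⁆) ∧ a ≠ 1 ∧
    ∃ y ∈ sigmaCore M, y ≠ 1 ∧ a * y = y * a}

/-- `A₀(M)` in the same sense. -/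
noncomputable def bookA0 (M : Subgroup G) : Set G :=
  bookA M ∪ typeA0 M

omit [Finite G] in
theorem bookA_subset {M : Subgroup G} {a : G} (ha : a ∈ bookA M) : a ∈ M := by
  have h1 := ha.1
  split_ifs at h1 with hk
  · exact h1
  · exact Subgroup.commutator_le_self M h1

omit [Finite G] in
theorem conj_mem_fittingHallOf {M : Subgroup G} {m y : G} (hm : m ∈ M)
    (hy : y ∈ fittingHallOf M) : m * y * m⁻¹ ∈ fittingHallOf M := by
  obtain ⟨z, hz, rfl⟩ := hy
  exact ⟨⟨m, hm⟩ * z * ⟨m, hm⟩⁻¹, (fittingHall_normal M).conj_mem _ hz _, rfl⟩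

omit [Finite G] in
theorem conj_mem_derived {M : Subgroup G} {m y : G} (hm : m ∈ M)
    (hy : y ∈ (⁅M, M⁆ : Subgroup G)) : m * y * m⁻¹ ∈ (⁅M, M⁆ : Subgroup G) :=
  (Subgroup.mem_normalizer_iff.mp (Coprime.le_normalizer_commutator_left M M hm) y).mp hy

omit [Finite G] in
theorem conj_mem_typeCore {M : Subgroup G} {m y : G} (hm : m ∈ M)
    (hy : y ∈ typeCore M) : m * y * m⁻¹ ∈ typeCore M := by
  unfold typeCore at hy ⊢
  split_ifs at hy ⊢
  · exact conj_mem_derived hm hy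
  · exact conj_mem_fittingHallOf hm hy

omit [Finite G] in
theorem conj_commute {m a y : G} (h : a * y = y * a) :
    m * a * m⁻¹ * (m * y * m⁻¹) = m * y * m⁻¹ * (m * a * m⁻¹) := by
  calc m * a * m⁻¹ * (m * y * m⁻¹) = m * (a * y) * m⁻¹ := by group
    _ = m * (y * a) * m⁻¹ := by rw [h]
    _ = m * y * m⁻¹ * (m * a * m⁻¹) := by group

omit [Finite G] in
theorem conj_mem_bookA {M : Subgroup G} {m a : G} (hm : m ∈ M) (ha : a ∈ bookA M) :
    m * a * m⁻¹ ∈ bookA M := by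
  obtain ⟨h1, ha1, y, hy, hy1, hay⟩ := ha
  refine ⟨?_, fun h0 => ha1 (conj_eq_one_iff.mp h0), m * y * m⁻¹, conj_mem_sigmaCore hm hy,
    fun h0 => hy1 (conj_eq_one_iff.mp h0), conj_commute hay⟩
  split_ifs at h1 ⊢
  · exact M.mul_mem (M.mul_mem hm h1) (M.inv_mem hm)
  · exact conj_mem_derived hm h1

omit [Finite G] in
theorem conj_mem_typeA {M : Subgroup G} {m a : G} (hm : m ∈ M) (ha : a ∈ typeA M) :
    m * a * m⁻¹ ∈ typeA M := by
  unfold typeA at ha ⊢
  split_ifs at ha ⊢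
  · obtain ⟨h1, ha1, y, hy, hy1, hay⟩ := ha
    exact ⟨M.mul_mem (M.mul_mem hm h1) (M.inv_mem hm), fun h0 => ha1 (conj_eq_one_iff.mp h0),
      m * y * m⁻¹, conj_mem_fittingHallOf hm hy, fun h0 => hy1 (conj_eq_one_iff.mp h0),
      conj_commute hay⟩
  · obtain ⟨h1, ha1, y, hy, hy1, hay⟩ := ha
    exact ⟨conj_mem_derived hm h1, fun h0 => ha1 (conj_eq_one_iff.mp h0),
      m * y * m⁻¹, conj_mem_typeCore hm hy, fun h0 => hy1 (conj_eq_one_iff.mp h0),
      conj_commute hay⟩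

omit [Finite G] in
theorem conj_mem_typeA1 {M : Subgroup G} {m a : G} (hm : m ∈ M) (ha : a ∈ typeA1 M) :
    m * a * m⁻¹ ∈ typeA1 M :=
  ⟨conj_mem_typeCore hm ha.1, fun h0 => ha.2 (conj_eq_one_iff.mp h0)⟩

omit [Finite G] in
theorem conj_mem_typeA0 {M : Subgroup G} {m a : G} (hm : m ∈ M) (ha : a ∈ typeA0 M) :
    m * a * m⁻¹ ∈ typeA0 M := by
  rcases ha with ha | ⟨hI, W, U, W₂, hP, n, hn, w, hw, hw1, hw2, rfl⟩
  · exact Or.inl (conj_mem_typeA hm ha)
  · exact Or.inr ⟨hI, W, U, W₂, hP, m * n, M.mul_mem hm hn, w, hw, hw1, hw2, by group⟩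

/-- A nonempty `M`-invariant set of non-identity elements of `M` has normalizer `M`. -/
theorem normalizer_eq (hG : IsMinSimpleOddOrder G) {M : Subgroup G} (hM : IsCoatom M) {A : Set G}
    (hAM : A ⊆ (M : Set G)) (hconj : ∀ m ∈ M, ∀ a ∈ A, m * a * m⁻¹ ∈ A)
    (hne : ∃ a ∈ A, a ≠ 1) : Subgroup.normalizer A = M := by
  have hle : M ≤ Subgroup.normalizer A := fun m hm => by
    rw [Subgroup.mem_set_normalizer_iff]
    intro z
    refine ⟨fun hz => hconj m hm z hz, fun hz => ?_⟩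
    have h1 := hconj m⁻¹ (M.inv_mem hm) _ hz
    simpa [mul_assoc] using h1
  refine (hM.le_iff.1 hle).resolve_left fun e => ?_
  haveI := hG.2.1
  have hn : (Subgroup.closure A).Normal := by
    refine ⟨fun n hn g => ?_⟩
    induction hn using Subgroup.closure_induction with
    | mem x hx =>
      exact Subgroup.subset_closure
        ((Subgroup.mem_set_normalizer_iff.mp (e.ge (Subgroup.mem_top g)) x).mp hx)
    | one => simp
    | mul x y _ _ h1 h2 =>
      rw [show g * (x * y) * g⁻¹ = g * x * g⁻¹ * (g * y * g⁻¹) by group]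
      exact mul_mem h1 h2
    | inv x _ h1 =>
      rw [show g * x⁻¹ * g⁻¹ = (g * x * g⁻¹)⁻¹ by group]
      exact inv_mem h1
  have hcl : Subgroup.closure A ≤ M := (Subgroup.closure_le M).mpr hAM
  rcases IsSimpleGroup.eq_bot_or_eq_top_of_normal (Subgroup.closure A) hn with h0 | h0
  · obtain ⟨a, ha, ha1⟩ := hne
    exact ha1 (Subgroup.mem_bot.mp (h0.le (Subgroup.subset_closure ha)))
  · exact hM.1 (top_le_iff.1 (h0 ▸ hcl))

omit [Finite G] in
/-- The Dade hypothesis passes to an invariant subset. -/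
theorem dade_mono {A B : Set G} {L : Subgroup G} {H : G → Subgroup G}
    (hD : DadeHypothesis B L H) (hAB : A ⊆ B) (hconj : ∀ x ∈ L, ∀ a ∈ A, x * a * x⁻¹ ∈ A) :
    DadeHypothesis A L H where
  one_not_mem := fun h1 => hD.one_not_mem (hAB h1)
  subset := hAB.trans hD.subset
  conj_mem := hconj
  fusion := fun a ha g hg => hD.fusion a (hAB ha) g (hAB hg)
  le_centralizer := fun a ha => hD.le_centralizer a (hAB ha)
  conj_mem_H := fun a ha => hD.conj_mem_H a (hAB ha)
  inf_eq_bot := fun a ha => hD.inf_eq_bot a (hAB ha)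
  sup_eq := fun a ha => hD.sup_eq a (hAB ha)
  coprime := fun a ha b hb => hD.coprime a (hAB ha) b (hAB hb)

variable (hG : IsMinSimpleOddOrder G) (h : SummaryInputs G)
include hG h

theorem mem_bookA_iff {M K U : Subgroup G} (hM : IsCoatom M) (hKU : IsSigmaDecomposition M K U)
    {a : G} : a ∈ bookA M ↔
      a ∈ U ⊔ sigmaCore M ∧ a ≠ 1 ∧ ∃ y ∈ sigmaCore M, y ≠ 1 ∧ a * y = y * a := by
  by_cases hK : K = ⊥
  · simp only [bookA, Set.mem_ofPred_eq, if_pos ((eq_bot_iff_kappa hKU.hall).mp hK),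
      sup_eq_of_bot hKU hK]
  · simp only [bookA, Set.mem_ofPred_eq,
      if_neg (fun he => hK ((eq_bot_iff_kappa hKU.hall).mpr he)),
      (h.derived M hM K U hKU hK).1]

theorem typeA_subset_bookA {M : Subgroup G} (hM : IsCoatom M) : typeA M ⊆ bookA M := fun a ha => by
  obtain ⟨K, U, hKU⟩ := exists_decomp h hM
  exact (mem_bookA_iff hG h hM hKU).mpr (mem_typeA_imp hG h hM hKU ha)

/-- For Type I with `κ(M) = ∅`, or for `κ(M)` nonempty, `A(M)` is `bookA M`. -/
theorem typeA_eq_bookA {M : Subgroup G} (hM : IsCoatom M)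
    (hI : kappa M = ∅ → IsOfTypeI M) : typeA M = bookA M := by
  obtain ⟨K, U, hKU⟩ := exists_decomp h hM
  ext a
  rw [mem_bookA_iff hG h hM hKU,
    BGSummary.mem_typeA_iff hG h hM hKU fun hK => hI ((eq_bot_iff_kappa hKU.hall).mp hK)]

theorem sigma_subset_typeA {M : Subgroup G} (hM : IsCoatom M) {a : G} (ha : a ∈ sigmaCore M)
    (ha1 : a ≠ 1) : a ∈ typeA M := by
  obtain ⟨K, U, hKU⟩ := exists_decomp h hM
  rw [typeA]
  split_ifs with ht
  · refine ⟨sigmaCore_le M ha, ha1, a, ?_, ha1, rfl⟩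
    rw [fittingHallOf_eq h hM hKU (h.typeI_conv M hM K U hKU ht).2]
    exact ha
  · refine ⟨(h.fitting_core M hM).2.2.1 ha, ha1, a, ?_, ha1, rfl⟩
    rw [typeCore_eq h hM]
    exact ha

theorem typeA1_subset {M : Subgroup G} (hM : IsCoatom M) : typeA1 M ⊆ typeA M := fun a ha => by
  obtain ⟨h1, h2⟩ := ha
  rw [SetLike.mem_coe, typeCore_eq h hM] at h1
  exact sigma_subset_typeA hG h hM h1 h2

theorem exists_sigma_ne {M : Subgroup G} (hM : IsCoatom M) :
    ∃ a ∈ sigmaCore M, a ≠ 1 := by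
  obtain ⟨h0, hle, -⟩ := h.fitting_core M hM
  obtain ⟨a, ha, ha1⟩ := (Subgroup.bot_or_exists_ne_one _).resolve_left h0
  exact ⟨a, hle ha, ha1⟩

/-- An element of `bookA0 M` outside `bookA M` lies in the part of type `P`. -/
theorem of_not_bookA {M : Subgroup G} (hM : IsCoatom M) {v : G} (hv : v ∈ bookA0 M)
    (hvA : v ∉ bookA M) :
    kappa M ≠ ∅ ∧ v ∈ M ∧ Subgroup.centralizer ({v} : Set G) ≤ M ∧
      ∀ g : G, g * v * g⁻¹ ∈ M → g ∈ M := by
  have hv0 : v ∈ typeA0 M := hv.resolve_left hvA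
  have hvT : v ∉ typeA M := fun h0 => hvA (typeA_subset_bookA hG h hM h0)
  refine ⟨?_, (of_typeA0_not_typeA hG h hM hv0 hvT).2⟩
  rcases hv0 with h0 | ⟨-, W, U', W₂, hP, -⟩
  · exact absurd h0 hvT
  obtain ⟨K, U, hKU⟩ := exists_decomp h hM
  exact fun he => h.typeP_conv M hM K U hKU W U' W₂ hP ((eq_bot_iff_kappa hKU.hall).mpr he)

theorem bookA0_subset {M : Subgroup G} (hM : IsCoatom M) {v : G} (hv : v ∈ bookA0 M) : v ∈ M := by
  by_cases hA : v ∈ bookA M
  · exact bookA_subset hA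
  · exact (of_not_bookA hG h hM hv hA).2.1

theorem one_not_mem {M : Subgroup G} (hM : IsCoatom M) : (1 : G) ∉ bookA0 M := fun h1 => by
  by_cases hA : (1 : G) ∈ bookA M
  · exact hA.2.1 rfl
  · refine hM.1 (eq_top_iff.mpr fun g _ => (of_not_bookA hG h hM h1 hA).2.2.2 g ?_)
    simp

/-- Outside `M_σ` an element of `bookA M` has its centralizer in `M`, and only elements of `M`
conjugate it into `bookA M`. -/
theorem of_not_sigma {M : Subgroup G} (hM : IsCoatom M) {x : G} (hx : x ∈ bookA M)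
    (hxσ : x ∉ sigmaCore M) :
    Subgroup.centralizer ({x} : Set G) ≤ M ∧ ∀ g : G, g * x * g⁻¹ ∈ bookA M → g ∈ M := by
  obtain ⟨K, U, hKU⟩ := exists_decomp h hM
  obtain ⟨hx1, -, y, hy, hy1, hxy⟩ := (mem_bookA_iff hG h hM hKU).mp hx
  obtain ⟨r, n, hr, hrσ, hxn⟩ := exists_prime_power h hM (le_of_decomp hKU hx1) hxσ
  obtain ⟨hC, -⟩ := centralizer_uniq_of_mem h hM hKU (pow_mem hx1 n) hr hrσ hxn hy hy1
    ((show Commute x y from hxy).pow_left n).eq
  refine ⟨fun c hc => hC ?_, fun g hgx => ?_⟩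
  · rw [Subgroup.mem_centralizer_singleton_iff] at hc ⊢
    exact ((show Commute c x from hc).pow_right n).eq
  obtain ⟨hg1, -, z, hz, hz1, hgz⟩ := (mem_bookA_iff hG h hM hKU).mp hgx
  obtain ⟨-, hu⟩ := centralizer_uniq_of_mem h hM hKU (pow_mem hg1 n) hr hrσ
    (by rw [conj_pow]; exact (MulEquiv.orderOf_eq (MulAut.conj g) _).trans hxn) hz hz1
    ((show Commute _ z from hgz).pow_left n).eq
  rw [conj_pow] at hu
  have hco : IsCoatom (M.map (MulAut.conj g).toMonoidHom) := BGSigma.isCoatom_map_conj hM g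
  have heq := hu _ hco fun c hc => by
    rw [BGSigma.mem_map_conj]
    refine hC ?_
    have h4 := conj_mem_centralizer_singleton (m := g⁻¹) hc
    simpa [mul_assoc] using h4
  rw [← BGSigma.coatom_self_normalizing hG hM]
  exact Subgroup.mem_normalizer_iff_map_conj_eq.mpr heq

theorem of_not_le {M : Subgroup G} (hM : IsCoatom M) {x : G} (hx : x ∈ bookA0 M)
    (hxC : ¬ Subgroup.centralizer ({x} : Set G) ≤ M) : x ∈ sigmaCore M ∧ x ≠ 1 := by
  by_cases hA : x ∈ bookA M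
  · exact ⟨by_contra fun hσ => hxC (of_not_sigma hG h hM hA hσ).1, hA.2.1⟩
  · exact absurd (of_not_bookA hG h hM hx hA).2.2.1 hxC

theorem fusion {M : Subgroup G} (hM : IsCoatom M) {x : G} (hx : x ∈ bookA0 M) {g : G}
    (hgx : g * x * g⁻¹ ∈ bookA0 M) : ∃ m ∈ M, m * x * m⁻¹ = g * x * g⁻¹ := by
  by_cases hA : x ∈ bookA M
  · by_cases hB : g * x * g⁻¹ ∈ bookA M
    · by_cases hxσ : x ∈ sigmaCore M
      · have hyσ : g * x * g⁻¹ ∈ sigmaCore M :=
          le_sigmaCore_of_sigma h hM (bookA_subset hB) fun p hp hd => by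
            have hd' : p ∣ orderOf x := by
              rwa [show g * x * g⁻¹ = MulAut.conj g x from rfl, MulEquiv.orderOf_eq] at hd
            exact isPiSub_sigmaCore M p hp
              (hd'.trans (Subgroup.orderOf_dvd_natCard _ hxσ))
        have hne : sigmaCore M ≠ ⊥ := fun h0 => hA.2.1 (Subgroup.mem_bot.mp (h0.le hxσ))
        obtain ⟨n, hn, hnx⟩ := (h.sigma_fusion M hM (sigmaCore M) le_rfl hne
          (by rw [Subgroup.relIndex_self]; exact Nat.coprime_one_right _)).2 x hxσ g hyσ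
        exact ⟨n, hn.1, hnx⟩
      · exact ⟨g, (of_not_sigma hG h hM hA hxσ).2 g hB, rfl⟩
    · refine ⟨g, ?_, rfl⟩
      have := (of_not_bookA hG h hM hgx hB).2.2.2 g⁻¹ (by
        simpa [mul_assoc] using bookA0_subset hG h hM hx)
      simpa using inv_mem this
  · exact ⟨g, (of_not_bookA hG h hM hx hA).2.2.2 g (bookA0_subset hG h hM hgx), rfl⟩

/-- `R(x)` is trivial or `C(x)` leaves `M` and `R(x) = C_{L_σ}(x)` for the only `L` over `C(x)`. -/
theorem supportR_cases {M : Subgroup G} (hM : IsCoatom M) {x : G} (hx : x ∈ bookA0 M) :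
    (Subgroup.centralizer ({x} : Set G) ≤ M ∧ supportR M x = ⊥) ∨
      (¬ Subgroup.centralizer ({x} : Set G) ≤ M ∧ x ∈ sigmaCore M ∧ x ≠ 1 ∧
        ∃ N : Subgroup G, IsCoatom N ∧ Subgroup.centralizer ({x} : Set G) ≤ N ∧
          (∀ L : Subgroup G, IsCoatom L → Subgroup.centralizer ({x} : Set G) ≤ L → L = N) ∧
          sigmaCore N = fittingHallOf N ∧
          supportR M x = sigmaCore N ⊓ Subgroup.centralizer ({x} : Set G)) := by
  by_cases hxC : Subgroup.centralizer ({x} : Set G) ≤ M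
  · exact Or.inl ⟨hxC, BGSigma.supportR_of_le hG hxC⟩
  obtain ⟨hxσ, hx1⟩ := of_not_le hG h hM hx hxC
  obtain ⟨N, ⟨hN, hCN⟩, hNu, hσF, -⟩ := h.signalizer M hM x hxσ hx1 hxC
  refine Or.inr ⟨hxC, hxσ, hx1, N, hN, hCN, hNu, hσF, ?_⟩
  have hex : ∃! L : Subgroup G, IsCoatom L ∧ Subgroup.centralizer ({x} : Set G) ≤ L :=
    ⟨N, ⟨hN, hCN⟩, fun L hL => hNu L hL.1 hL.2⟩
  rw [supportR, dif_pos ⟨hxC, hex⟩]
  rw [hNu _ (Classical.choose_spec hex.exists).1 (Classical.choose_spec hex.exists).2, hσF]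

/-- The Dade hypothesis for `bookA0 M`, hence for every invariant subset. -/
theorem dade_bookA0 {M : Subgroup G} (hM : IsCoatom M) :
    DadeHypothesis (bookA0 M) M (supportR M) := by
  refine ⟨one_not_mem hG h hM, fun a ha => bookA0_subset hG h hM ha, ?_, ?_, ?_, ?_, ?_, ?_, ?_⟩
  · rintro m hm a (ha | ha)
    exacts [Or.inl (conj_mem_bookA hm ha), Or.inr (conj_mem_typeA0 hm ha)]
  · exact fun a ha g hg => fusion hG h hM ha hg
  · intro a ha
    rcases supportR_cases hG h hM ha with ⟨-, hR⟩ | ⟨-, -, -, N, -, -, -, -, hR⟩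
    · rw [hR]; exact bot_le
    · rw [hR]; exact inf_le_right
  · intro a ha c hc u hu
    rcases supportR_cases hG h hM ha with ⟨-, hR⟩ | ⟨hxC, hxσ, hx1, N, hN, hCN, hNu, hσF, hR⟩
    · rw [hR, Subgroup.mem_bot] at hu ⊢
      simp [hu]
    · obtain ⟨N', hN', hNu', -, hnorm, -⟩ := h.signalizer M hM a hxσ hx1 hxC
      obtain rfl := hNu' N hN hCN
      rw [hR] at hu ⊢
      exact (Subgroup.mem_normalizer_iff.mp (hnorm hc) u).mp hu
  · intro a ha
    rcases supportR_cases hG h hM ha with ⟨-, hR⟩ | ⟨hxC, hxσ, hx1, N, hN, hCN, hNu, hσF, hR⟩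
    · rw [hR, bot_inf_eq]
    · obtain ⟨N', hN', hNu', -, -, hcomp, -⟩ := h.signalizer M hM a hxσ hx1 hxC
      obtain rfl := hNu' N hN hCN
      rw [hR, inf_comm]
      exact hcomp.2.2.1
  · intro a ha
    rcases supportR_cases hG h hM ha with ⟨hC, hR⟩ | ⟨hxC, hxσ, hx1, N, hN, hCN, hNu, hσF, hR⟩
    · rw [hR, bot_sup_eq, inf_eq_right.mpr hC]
    · obtain ⟨N', hN', hNu', -, -, hcomp, -⟩ := h.signalizer M hM a hxσ hx1 hxC
      obtain rfl := hNu' N hN hCN
      rw [hR, sup_comm]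
      exact isComplIn_sup hcomp
  · intro a ha b hb
    rcases supportR_cases hG h hM ha with ⟨-, hR⟩ | ⟨hxC, hxσ, hx1, N, hN, hCN, hNu, hσF, hR⟩
    · rw [hR, Subgroup.card_bot]
      exact Nat.coprime_one_left _
    obtain ⟨N', hN', hNu', -, -, -, -, hNd⟩ := h.signalizer M hM a hxσ hx1 hxC
    obtain rfl := hNu' N hN hCN
    obtain ⟨K', U', hKU'⟩ := exists_decomp h hN
    obtain ⟨-, -, haN⟩ := hNd K' U' hKU'
    rw [hR]
    refine Nat.coprime_of_dvd fun r hr hd hd' => ?_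
    haveI := Fact.mk hr
    have hrN : r ∈ sigma N :=
      isPiSub_sigmaCore N r hr (hd.trans (Subgroup.card_dvd_of_le inf_le_left))
    obtain ⟨hκ, hτ⟩ := (h.support_primes M hM a hxσ hx1 hxC N hN hCN).1
      ⟨r, hrN, hd'.trans (Subgroup.card_dvd_of_le inf_le_left)⟩
    have hσw : ∀ w ∈ sigmaCore M, w ≠ 1 → ∀ v ∈ M, v * w = w * v → ∀ q : ℕ, q.Prime →
        orderOf v = q → q ∈ sigma M := by
      intro w hw hw1 v hv hvw q hq hvq
      by_contra hqσ
      have hall : ∀ p : ℕ, p.Prime → p ∣ orderOf v → p = q := fun p hp hpd =>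
        (Nat.prime_dvd_prime_iff_eq hp hq).mp (hvq ▸ hpd)
      rcases h.sigma_prime_commute M hM w hw hw1 v
        ⟨hv, Subgroup.mem_centralizer_singleton_iff.mpr hvw⟩
        (fun h0 => hq.ne_one (by rw [← hvq, h0, orderOf_one]))
        (fun p hp hpd => hall p hp hpd ▸ hqσ) with ⟨h1, -⟩ | ⟨h1, -⟩
      · exact (hκ ▸ h1 q hq hvq.symm.dvd : q ∈ (∅ : Set ℕ))
      · exact (hτ ▸ h1 q hq hvq.symm.dvd : q ∈ (∅ : Set ℕ))
    have hbA : b ∈ bookA M := by_contra fun hbA => (of_not_bookA hG h hM hb hbA).1 hκ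
    have hbM : b ∈ M := bookA_subset hbA
    obtain ⟨-, hb1, w, hw, hw1, hbw⟩ := hbA
    have hbσ : b ∈ sigmaCore M := by
      by_contra hbσ
      obtain ⟨q, n, hq, hqσ, hbn⟩ := exists_prime_power h hM hbM hbσ
      exact hqσ (hσw w hw hw1 _ (pow_mem hbM n) ((show Commute b w from hbw).pow_left n).eq q hq hbn)
    obtain ⟨z, hz⟩ := exists_prime_orderOf_dvd_card' r hd'
    have hrM : r ∈ sigma M := hσw b hbσ hb1 z z.2.1
      (Subgroup.mem_centralizer_singleton_iff.mp z.2.2) r hr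
      (by rw [orderOf_submonoid]; exact hz)
    obtain ⟨g, hg⟩ := (h.sigma_partition).2 M N hM hN ⟨r, hrM, hrN⟩
    refine haN (le_sigmaCore_of_sigma h hN (hCN (Subgroup.mem_centralizer_singleton_iff.mpr rfl))
      fun p hp hpd => ?_)
    rw [hg]
    exact sigma_subset_conj
      (isPiSub_sigmaCore M p hp (hpd.trans (Subgroup.orderOf_dvd_natCard _ hxσ)))

theorem dade_bookA {M : Subgroup G} (hM : IsCoatom M) :
    DadeHypothesis (bookA M) M (supportR M) :=
  dade_mono (dade_bookA0 hG h hM) Set.subset_union_left fun _ hm _ ha => conj_mem_bookA hm ha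

theorem dade_typeA0 {M : Subgroup G} (hM : IsCoatom M) :
    DadeHypothesis (typeA0 M) M (supportR M) :=
  dade_mono (dade_bookA0 hG h hM) Set.subset_union_right fun _ hm _ ha => conj_mem_typeA0 hm ha

theorem dade_typeA {M : Subgroup G} (hM : IsCoatom M) :
    DadeHypothesis (typeA M) M (supportR M) :=
  dade_mono (dade_typeA0 hG h hM) Set.subset_union_left fun _ hm _ ha => conj_mem_typeA hm ha

theorem dade_typeA1 {M : Subgroup G} (hM : IsCoatom M) :
    DadeHypothesis (typeA1 M) M (supportR M) :=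
  dade_mono (dade_typeA hG h hM) (typeA1_subset hG h hM) fun _ hm _ ha => conj_mem_typeA1 hm ha

theorem normalizer_bookA {M : Subgroup G} (hM : IsCoatom M) :
    Subgroup.normalizer (bookA M) = M := by
  obtain ⟨a, ha, ha1⟩ := exists_sigma_ne hG h hM
  exact normalizer_eq hG hM (fun a ha => bookA_subset ha) (fun _ hm _ hx => conj_mem_bookA hm hx)
    ⟨a, typeA_subset_bookA hG h hM (sigma_subset_typeA hG h hM ha ha1), ha1⟩

/-- `S1537`. -/
theorem dade_stmt (M : Subgroup G) (hM : IsCoatom M) (A : Set G)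
    (hA : A = typeA1 M ∨ A = typeA M ∨ A = typeA0 M) :
    Subgroup.normalizer A = M ∧ DadeHypothesis A M (supportR M) := by
  obtain ⟨a, ha, ha1⟩ := exists_sigma_ne hG h hM
  rcases hA with rfl | rfl | rfl
  · exact ⟨normalizer_eq hG hM (dade_typeA1 hG h hM).subset (dade_typeA1 hG h hM).conj_mem
      ⟨a, ⟨by rw [SetLike.mem_coe, typeCore_eq h hM]; exact ha, ha1⟩, ha1⟩, dade_typeA1 hG h hM⟩
  · exact ⟨normalizer_eq hG hM (dade_typeA hG h hM).subset (dade_typeA hG h hM).conj_mem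
      ⟨a, sigma_subset_typeA hG h hM ha ha1, ha1⟩, dade_typeA hG h hM⟩
  · exact ⟨normalizer_eq hG hM (dade_typeA0 hG h hM).subset (dade_typeA0 hG h hM).conj_mem
      ⟨a, Or.inl (sigma_subset_typeA hG h hM ha ha1), ha1⟩, dade_typeA0 hG h hM⟩

/-- `S1538`. -/
theorem typeII_ti_stmt (M : Subgroup G) (hM : IsCoatom M) (hII : IsOfTypeII M) :
    (IsTISubset (typeA0 M) ∧ Subgroup.normalizer (typeA0 M) = M) ∧
      (IsTISubset (typeA M) ∧ Subgroup.normalizer (typeA M) = M) ∧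
      (IsTISubset (typeA1 M) ∧ Subgroup.normalizer (typeA1 M) = M) := by
  obtain ⟨K, U, hKU⟩ := exists_decomp h hM
  obtain ⟨hK, hU⟩ := (h.typeII_iff M hM K U hKU).mp hII
  obtain ⟨W₁, V, W₂, -, -, -, hTI, -⟩ := hII
  have hF := fittingHallOf_eq h hM hKU hU
  have hC : ∀ x ∈ bookA0 M, Subgroup.centralizer ({x} : Set G) ≤ M := by
    intro x hx
    by_contra hxC
    obtain ⟨hxσ, hx1⟩ := of_not_le hG h hM hx hxC
    obtain ⟨c, hc, hcM⟩ := Set.not_subset.mp hxC
    have hxF : x ∈ fittingOf M := by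
      refine TypeCore.fittingHallOf_le_fittingOf M ?_
      rw [hF]
      exact hxσ
    have hFM : Subgroup.normalizer (fittingOf M : Set G) = M :=
      BGSigma.normalizer_eq_coatom hG hM (BGUniq.fittingOf_le M)
        (fun h0 => hx1 (Subgroup.mem_bot.mp (h0.le hxF))) (BGUniq.le_normalizer_fittingOf M)
    refine hx1 (hTI c (fun h0 => hcM (hFM.le h0)) x hxF ?_)
    rw [Subgroup.mem_centralizer_singleton_iff.mp hc, mul_inv_cancel_right]
    exact hxF
  have key : ∀ A : Set G, A ⊆ bookA0 M → Subgroup.normalizer A = M →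
      IsTISubset A ∧ Subgroup.normalizer A = M := by
    refine fun A hA hN => ⟨fun g hg x hx hgx => False.elim (hg ?_), hN⟩
    rw [hN]
    obtain ⟨m, hm, hmx⟩ := fusion hG h hM (hA hx) (hA hgx)
    have h1 : m⁻¹ * g ∈ Subgroup.centralizer ({x} : Set G) := by
      rw [Subgroup.mem_centralizer_singleton_iff]
      calc m⁻¹ * g * x = m⁻¹ * (g * x * g⁻¹) * g := by group
        _ = m⁻¹ * (m * x * m⁻¹) * g := by rw [hmx]
        _ = x * (m⁻¹ * g) := by group
    simpa using M.mul_mem hm (hC x (hA hx) h1)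
  exact ⟨key _ Set.subset_union_right (dade_stmt hG h M hM _ (Or.inr (Or.inr rfl))).1,
    key _ ((typeA_subset_bookA hG h hM).trans Set.subset_union_left)
      (dade_stmt hG h M hM _ (Or.inr (Or.inl rfl))).1,
    key _ (((typeA1_subset hG h hM).trans (typeA_subset_bookA hG h hM)).trans Set.subset_union_left)
      (dade_stmt hG h M hM _ (Or.inl rfl)).1⟩

end Cfsg.Agent.PF8
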