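import Cfsg.Agent.PF8.Book
import Cfsg.Agent.BGSummary.LocalInst
import Cfsg.Agent.BGSummary.OfLocal

/-!
The summary inputs hold unconditionally.
-/

set_option autoImplicit false

namespace Cfsg.Agent.PF8

open Cfsg

universe u

variable {G : Type u} [Group G] [Finite G]

theorem summaryInputs (hG : IsMinSimpleOddOrder G) : BGSummary.SummaryInputs G :=
  BGSummary.SummaryInputs.of_local hG (BGSummary.localStructure hG)

end Cfsg.Agent.PF8
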