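import Cfsg.Agent.PF8.TypeP
import Cfsg.Agent.PF.PrimeDade

/-!
# Peterfalvi 8: the hypotheses of §4 for a maximal subgroup of type `P`
-/

set_option autoImplicit false
set_option linter.unusedSectionVars false

namespace Cfsg.Agent.PF8

open Cfsg
open scoped Pointwise
open Cfsg.Agent.BGSummary
open Cfsg.Agent.BGSigma (sigmaCore_le le_normalizer_sigmaCore isPiSub_sigmaCore)

universe u

variable {G : Type u} [Group G] [Finite G] (hG : IsMinSimpleOddOrder G)
include hG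

theorem derived_le (M : Subgroup G) : ⁅M, M⁆ ≤ M := Subgroup.commutator_le_self M

/-- Hypothesis (4.2) of Peterfalvi for `M`, `K = M'`. -/
theorem primeTI {M W₁ U W₂ : Subgroup G} (hM : IsCoatom M) (hP : IsTypePWith M W₁ U W₂) :
    OddChar.PrimeTI.Hyp ((⁅M, M⁆ : Subgroup G).subgroupOf M) (W₁.subgroupOf M) (W₂.subgroupOf M) := by
  obtain ⟨hdM, hWM, hdW, hmul⟩ := hP.W₁_compl
  have hW₂d : W₂ ≤ ⁅M, M⁆ := (hP.W₂_le.trans inf_le_left).trans hP.U_compl.1
  have hW₂M : W₂ ≤ M := hW₂d.trans hdM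
  have hc : IsCyclic ↥(W₁ ⊔ W₂) := hP.selfNormalizing.2.2.2.2.1
  refine
    { normal := (Subgroup.normal_subgroupOf_iff_le_normalizer hdM).mpr
        (Coprime.le_normalizer_commutator_left M M)
      inf := ?_
      sup := ?_
      ne₁ := fun h0 => hP.W₁_ne (by
        rw [← Subgroup.map_subgroupOf_eq_of_le hWM, h0, Subgroup.map_bot])
      cyc₁ := ?_
      hall := ?_
      ne₂ := fun h0 => hP.selfNormalizing.2.1 (by
        rw [← Subgroup.map_subgroupOf_eq_of_le hW₂M, h0, Subgroup.map_bot])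
      cyc₂ := ?_
      le := fun x hx => hW₂d hx
      cent := fun x hx hx1 => ?_
      odd := ?_ }
  · refine (Subgroup.eq_bot_iff_forall _).mpr fun x hx => Subtype.ext ?_
    exact Subgroup.mem_bot.mp (hdW.le ⟨hx.1, hx.2⟩)
  · refine eq_top_iff.mpr fun x _ => ?_
    obtain ⟨a, ha, b, hb, hab⟩ := hmul x x.2
    have e : x = (⟨a, hdM ha⟩ : M) * ⟨b, hWM hb⟩ := Subtype.ext hab
    rw [e]
    exact Subgroup.mul_mem_sup ha hb
  · haveI := hP.W₁_cyclic
    exact (Subgroup.subgroupOfEquivOfLe hWM).isCyclic.mpr inferInstance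
  · rw [Nat.card_congr (Subgroup.subgroupOfEquivOfLe hWM).toEquiv]
    exact hP.W₁_hall
  · haveI := hc
    haveI : IsCyclic W₂ := Subgroup.isCyclic_of_le (le_sup_right : W₂ ≤ W₁ ⊔ W₂)
    exact (Subgroup.subgroupOfEquivOfLe hW₂M).isCyclic.mpr inferInstance
  · ext y
    have e := hP.W₂_centralizer (x : G) hx fun h0 => hx1 (Subtype.ext h0)
    rw [Subgroup.mem_inf, Subgroup.mem_subgroupOf, Subgroup.mem_centralizer_singleton_iff,
      Subgroup.mem_subgroupOf, ← e, Subgroup.mem_inf, Subgroup.mem_centralizer_singleton_iff]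
    exact and_congr Iff.rfl
      ⟨fun h1 => congrArg Subtype.val h1, fun h1 => Subtype.ext h1⟩
  · exact (BGSigma.odd_card_subgroup hG M).of_dvd_nat (Subgroup.card_subgroup_dvd_card _)

theorem typeA_eq {M W₁ U W₂ : Subgroup G} (hM : IsCoatom M) (hP : IsTypePWith M W₁ U W₂) :
    typeA M = {a | a ∈ ⁅M, M⁆ ∧ a ≠ 1 ∧ ∃ x ∈ typeCore M, x ≠ 1 ∧ a * x = x * a} := by
  rw [typeA, if_neg (not_typeI hG hM hP)]

theorem mem_typeA0_of_W {M W₁ U W₂ : Subgroup G} (hM : IsCoatom M)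
    (hP : IsTypePWith M W₁ U W₂) {w : G} (hw : w ∈ W₁ ⊔ W₂) (h1 : w ∉ W₁) (h2 : w ∉ W₂) :
    w ∈ typeA0 M :=
  Or.inr ⟨not_typeI hG hM hP, W₁, U, W₂, hP, 1, one_mem _, w, hw, h1, h2, by group⟩

/-- Peterfalvi, Hypothesis (4.6), for `A(M) ⊆ A₀(M)` with any `M`-normal `H` between `W₂` and
`M_s`. -/
theorem primeDade {M W₁ U W₂ : Subgroup G} (hM : IsCoatom M) (hP : IsTypePWith M W₁ U W₂)
    {H : Subgroup G} (hH : H ≤ typeCore M) (hW : W₂ ≤ H)
    (hn : M ≤ Subgroup.normalizer (H : Set G)) :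
    PF.PrimeDade (typeA M) (typeA0 M) M (supportR M) ((⁅M, M⁆ : Subgroup G).subgroupOf M)
      (H.subgroupOf M) (W₁.subgroupOf M) (W₂.subgroupOf M) := by
  have hWM := hP.W₁_compl.2.1
  have hW₂M : W₂ ≤ M :=
    ((hP.W₂_le.trans inf_le_left).trans hP.U_compl.1).trans hP.W₁_compl.1
  have hcore : typeCore M ≤ ⁅M, M⁆ := by
    rw [typeCore]
    split_ifs
    · exact le_rfl
    · exact hP.U_compl.1
  have hHM : H ≤ M := (hH.trans hcore).trans hP.W₁_compl.1
  refine
    { pti := primeTI hG hM hP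
      cyc := by
        rw [Subgroup.map_subgroupOf_eq_of_le hWM, Subgroup.map_subgroupOf_eq_of_le hW₂M]
        exact hP.selfNormalizing
      normal := (Subgroup.normal_subgroupOf_iff_le_normalizer hHM).mpr hn
      le₂ := fun x hx => hW hx
      leK := fun x hx => hcore (hH hx)
      subA := fun x hx => by
        rw [typeA_eq hG hM hP] at hx
        exact hx.1
      centA := fun x hx hx1 n hn' hn1 e => by
        rw [typeA_eq hG hM hP]
        exact ⟨hx, fun h0 => hx1 (Subtype.ext h0), n, hH hn', fun h0 => hn1 (Subtype.ext h0),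
          (congrArg Subtype.val e).symm⟩
      leA₀ := Set.subset_union_left
      offA₀ := ?_
      dade := dade_typeA0 hG (summaryInputs hG) hM }
  intro w h1 h2
  refine mem_typeA0_of_W hG hM hP ?_ h1 h2
  have hw : ((w : M) : G) ∈ ((W₁.subgroupOf M) ⊔ (W₂.subgroupOf M)).map M.subtype := ⟨w, w.2, rfl⟩
  rwa [Subgroup.map_sup, Subgroup.map_subgroupOf_eq_of_le hWM,
    Subgroup.map_subgroupOf_eq_of_le hW₂M] at hw

/-- In Types III and IV every non-identity element of `M'` lies in `A(M)`. -/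
theorem mem_typeA_of_derived {M W₁ U W₂ : Subgroup G} (hM : IsCoatom M)
    (hP : IsTypePWith M W₁ U W₂) (hT : IsOfTypeIII M ∨ IsOfTypeIV M) {x : G}
    (hx : x ∈ (⁅M, M⁆ : Subgroup G)) (hx1 : x ≠ 1) : x ∈ typeA M := by
  rw [typeA_eq hG hM hP]
  refine ⟨hx, hx1, x, ?_, hx1, rfl⟩
  rw [typeCore, if_pos hT]
  exact hx

end Cfsg.Agent.PF8
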